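import Cfsg.Agent.Lib.Comp.JRa.Ord
import Cfsg.Agent.Lib.Comp.PermGrp

set_option maxRecDepth 100000
set_option Elab.async false

namespace Cfsg.Lib.Comp.JRa

universe u

theorem card : Nat.card (cl (gp nets) L) = 175560 := card_of_ord ord nets_iv nets_rel lb

noncomputable def nc_h : ℕ := (nat_lit 0x4000000000000000000000000000a000000000a00000e000600000e00000a000600000000000000000000130000000007000013000013000300001300001300010000130000130006000000000013000700000e00000e000200000e00000e000100000e00000e000500000a00000e000400000000000e000700000a00000a000300000a00000a000100000a00000a000500000000000a000700000000000000020000000000000001000000000000000000000000000100080000000000000007000001000000000200000000000100030000000000010001000000000001)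

noncomputable def nc_c : List ℕ := [(nat_lit 0x2500006b00e20200006500003b00006500003700e60400004700006100003300006300004700006100920600002700005d000035008a03000049000059000e0200004900005700004b00002100004900005700940600005300004f00005100480300004f00080100004b00001b00004900840300000000004100003d00004300480300003700001f00001f00003500260400003700001b00003500360300003700002500200200000000002f00002b00002d00480300002b00080100002700001b000025003e0300000000000f00001700120200000500001700da02000001000017000a0200000700000f00000b00001300580400000500000300000f00000700780400000900000300000500480300000300020100000300080100000000001c)]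

theorem nc_b : goalB 1 (fun _ p => p) iv (allCodes iv (([2,1], 0) :: R)) (fun t => look nc_h 64 t, nc_c) 0 [([1],1,(nat_lit 0x19)),
 ([2],1,(nat_lit 0x1d)),
 ([3],1,(nat_lit 0x1f)),
 ([4],1,(nat_lit 0x6d)),
 ([5],1,(nat_lit 0x6f)),
 ([6],1,(nat_lit 0x5d)),
 ([7],1,(nat_lit 0x21)),
 ([8],1,(nat_lit 0x13))] (msk []) = true := by decide +kernel

theorem nc : Mem.{u} iv (([2,1], 0) :: R) ([].map fun x => [x]) [[1],
 [2],
 [3],
 [4],
 [5],
 [6],
 [7],
 [8]] := mem_of_goalB nc_b

noncomputable def subs : List (List ℕ × ℕ) := [([6,64,6,64,6,64,6,64,6,64,6,64,6,64,6,64,6,64],132),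
 ([6,64,6,64,6,64,64,6],11),
 ([6,64,6,64,6,64,6],12),
 ([64,6,64,6,64,6,64,6,64,6,64,6,64,6,64,6,64,6,64],110)]

theorem simpleB : cnd (transB nets L [2,2,4,8,6,2,7,2,4,2,6,2,7,1] 266) (cnd (fxB 320 9 266 nets L)
  (cnd (invB nets [6,64,65] (Nat.shiftLeft 1 0)) (subsB nets [6,64,65] subs 1) false) false) false = true := by decide +kernel

theorem simple : IsSimpleGroup (cl (gp nets) L) :=
  simple_perm nets_ok (by norm_num) (by norm_num) nets_iv nets_rel (by decide +kernel) (fun x hx => mem_all (sub_of_subB (by decide +kernel) x hx)) simpleB (by decide +kernel)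
    (p := 7) (a := 1) (m := 25080) (j := 1) (by norm_num) (card.trans (by norm_num)) (by norm_num) (by norm_num) (by decide +kernel)
    (w := [2,1]) (by decide +kernel) (eq_of_eqB (k := 9) (e := 6) (w := []) nets_ok (by norm_num) (by decide +kernel)) nc

end Cfsg.Lib.Comp.JRa
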