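import Cfsg.Agent.Lib.Comp.JRa.Mu0
import Cfsg.Agent.Lib.Comp.JRa.Main
import Cfsg.Agent.Lib.Comp.Cover

set_option maxRecDepth 100000
set_option Elab.async false

namespace Cfsg.Lib.Comp.JRa

universe u

theorem Mu_mb : MB (cl (gp nets) L) 43890 1 :=
  mb_one (w := 39) (n := 18) (La := L) (ix := nth 0 [0,0,0,0,0,0,1,2,3]) (by norm_num) (by norm_num) (nets_iv.sval _) (nets_rel.sval fun r hr x hx => mem_cl (sub_of_allR (by decide +kernel) r hr x hx)) (by decide +kernel)
    (TStep.trans (TStep.trans (TStep.trans (TStep.trans (TStep.trans (TStep.trans (TStep.repar (k' := 12) (by norm_num) (by norm_num) (by decide +kernel) (by decide +kernel) Mu1_b)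
    (TStep.enum0 (by norm_num) (by norm_num) Mu2_0 (Gs := Mu2G) (by decide +kernel)))
    (TStep.repar (k' := 9) (by norm_num) (by norm_num) (by decide +kernel) (by decide +kernel) Mu3_b))
    (TStep.enum0 (by norm_num) (by norm_num) Mu4_0 (Gs := Mu4G) (by decide +kernel)))
    (TStep.repar (k' := 4) (by norm_num) (by norm_num) (by decide +kernel) (by decide +kernel) Mu5_b))
    (TStep.enum0 (by norm_num) (by norm_num) Mu6_0 (Gs := Mu6G) (by decide +kernel)))
    (TStep.repar (k' := 0) (by norm_num) (by norm_num) (by decide +kernel) (by decide +kernel) Mu7_b))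
    (L := [1,2,3,4,5,6,7,8]) (I := [0,1,2,3,4,5,6,7,8,9,10,11,12,13,14,15,16,17]) (by decide +kernel) (by decide +kernel) ord card.ge (cl_sval_top _ _)

end Cfsg.Lib.Comp.JRa
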